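import Mathlib.CategoryTheory.Abelian.GrothendieckCategory.Basic
import Mathlib.CategoryTheory.Abelian.GrothendieckAxioms.Colim
import Mathlib.CategoryTheory.Generator.Basic
import Mathlib.CategoryTheory.Subobject.NoetherianObject
import Mathlib.CategoryTheory.Subobject.WellPowered
import Groth.Agent.KInj.Cover
import Groth.Agent.ARLib.Ext

/-!
# Faithful exact left adjoints with accessible right adjoints

If `F : A ⥤ B` is faithful, exact, left adjoint to `G`, and `G` commutes with filtered colimits,
then finiteness properties of `B` descend to `A`.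
-/

set_option backward.isDefEq.respectTransparency false
set_option backward.isDefEq.respectTransparency.types false
set_option linter.style.haveILetI false
set_option linter.unusedSectionVars false
set_option autoImplicit false

universe w u₁ u₂

open CategoryTheory Limits
open scoped ZeroObject

namespace Groth.Agent.Comonadic

attribute [local instance] IsFiltered.isConnected

variable {A : Type u₁} [Category.{w} A] [Abelian A] {B : Type u₂} [Category.{w} B] [Abelian B]
variable (F : A ⥤ B) {G : B ⥤ A} (adj : F ⊣ G) [F.Additive] [F.Faithful] [PreservesFiniteLimits F]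
  [PreservesFiniteColimits F]

section Res

variable {a : A} {N : B} (p : N ⟶ F.obj a)

/-- The map whose kernel is the largest subobject of `a` lying over the range of `p`. -/
noncomputable def phi : a ⟶ G.obj (cokernel p) := adj.unit.app a ≫ G.map (cokernel.π p)

/-- The largest subobject of `a` whose image lies in the range of `p`. -/
noncomputable abbrev res : A := kernel (phi F adj p)

theorem map_res_comp : F.map (kernel.ι (phi F adj p)) ≫ cokernel.π p = 0 := by
  have h : F.map (phi F adj p) ≫ adj.counit.app (cokernel p) = cokernel.π p := by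
    simp [phi, adj.counit_naturality]
  rw [← h, ← Functor.map_comp_assoc, kernel.condition, F.map_zero, zero_comp]

theorem exists_lift {T : B} (y : T ⟶ F.obj a) (hy : y ≫ F.map (phi F adj p) = 0) :
    ∃ z, z ≫ F.map (kernel.ι (phi F adj p)) = y := by
  let S : ShortComplex A := ShortComplex.mk _ _ (kernel.condition (phi F adj p))
  have hS : S.Exact := ShortComplex.exact_of_f_is_kernel _ (kernelIsKernel _)
  haveI : Mono (S.map F).f := inferInstanceAs (Mono (F.map (kernel.ι (phi F adj p))))
  exact (hS.map F).lift' y hy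

/-- The restriction is contained in the range of `p`. -/
noncomputable def resToImage : F.obj (res F adj p) ⟶ Abelian.image p :=
  kernel.lift _ (F.map (kernel.ι (phi F adj p))) (map_res_comp F adj p)

instance : Mono (resToImage F adj p) := by
  have : resToImage F adj p ≫ Abelian.image.ι p = F.map (kernel.ι (phi F adj p)) := kernel.lift_ι _ _ _
  exact mono_of_mono_fac this

include adj in
theorem mono_unit (a : A) : Mono (adj.unit.app a) := by
  infer_instance

include adj in
/-- The restriction embeds into `G` of the range of `p`. -/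
theorem exists_mono : ∃ i : res F adj p ⟶ G.obj (Abelian.image p), Mono i := by
  refine ⟨adj.homEquiv _ _ (resToImage F adj p), ?_⟩
  haveI := mono_unit F adj (res F adj p)
  haveI : PreservesLimitsOfSize.{0, 0} G := adj.rightAdjoint_preservesLimits
  rw [Adjunction.homEquiv_unit]
  infer_instance

theorem isNoetherianObject_res [IsNoetherianObject N] :
    IsNoetherianObject (F.obj (res F adj p)) := by
  haveI : IsNoetherianObject (Abelian.image p) := ARLib.noeth_of_epi (Abelian.factorThruImage p)
  exact isNoetherianObject_of_mono (resToImage F adj p)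

end Res

/-- An object is noetherian if its image under a faithful exact functor is. -/
theorem isNoetherianObject_of_map (a : A) [IsNoetherianObject (F.obj a)] : IsNoetherianObject a := by
  have hle : ∀ {P Q : Subobject a}, Subobject.mk (F.map P.arrow) ≤ Subobject.mk (F.map Q.arrow) → P ≤ Q := by
    intro P Q h
    have h0 : P.arrow ≫ cokernel.π Q.arrow = 0 := F.map_injective (by
      rw [F.map_zero, F.map_comp, ← Subobject.ofMkLEMk_comp h, Category.assoc, ← F.map_comp,
        cokernel.condition, F.map_zero, comp_zero])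
    exact Subobject.le_of_comm (Abelian.monoLift Q.arrow P.arrow h0) (Abelian.monoLift_comp _ _ h0)
  refine (ObjectProperty.is_iff _ _).2 (StrictMono.wellFoundedGT
    (f := fun P : Subobject a => Subobject.mk (F.map P.arrow)) (Monotone.strictMono_of_injective
      (fun P Q h => Subobject.mk_le_mk_of_comm (F.map (Subobject.ofLE P Q h))
        (by rw [← F.map_comp, Subobject.ofLE_arrow]))
      fun P Q h => le_antisymm (hle h.le) (hle h.ge)))

include F in
theorem wellPowered [WellPowered.{w} B] : WellPowered.{w} A := by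
  refine ⟨fun a => small_of_injective (f := fun P : Subobject a => Subobject.mk (F.map P.arrow)) ?_⟩
  intro P Q h
  have hle : ∀ {P Q : Subobject a}, Subobject.mk (F.map P.arrow) ≤ Subobject.mk (F.map Q.arrow) → P ≤ Q := by
    intro P Q h
    have h0 : P.arrow ≫ cokernel.π Q.arrow = 0 := F.map_injective (by
      rw [F.map_zero, F.map_comp, ← Subobject.ofMkLEMk_comp h, Category.assoc, ← F.map_comp,
        cokernel.condition, F.map_zero, comp_zero])
    exact Subobject.le_of_comm (Abelian.monoLift Q.arrow P.arrow h0) (Abelian.monoLift_comp _ _ h0)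
  exact le_antisymm (hle h.le) (hle h.ge)

include adj in
theorem ab5 [HasColimitsOfSize.{w, w} A] [HasFilteredColimitsOfSize.{w, w} B] [AB5OfSize.{w, w} B] :
    AB5OfSize.{w, w} A where
  ofShape J _ _ :=
    haveI : PreservesColimitsOfSize.{w, w} F := adj.leftAdjoint_preservesColimits
    HasExactColimitsOfShape.domain_of_functor J F

section Family

variable {a : A} {U : Type w} (obj : U → B) (f : ∀ u, obj u ⟶ F.obj a)

/-- The biproduct of a list of members of the family. -/
noncomputable def lsrc : List U → B
  | [] => 0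
  | u :: l => obj u ⊞ lsrc l

/-- The sum of a list of members of the family. -/
noncomputable def ldesc : ∀ l : List U, lsrc obj l ⟶ F.obj a
  | [] => 0
  | u :: l => biprod.desc (f u) (ldesc l)

theorem ldesc_comp_eq_zero_iff {Z : B} (c : F.obj a ⟶ Z) :
    ∀ l : List U, ldesc F obj f l ≫ c = 0 ↔ ∀ u ∈ l, f u ≫ c = 0
  | [] => by simp [ldesc]
  | u :: l => by
    simp only [List.mem_cons, forall_eq_or_imp, ← ldesc_comp_eq_zero_iff c l]
    constructor
    · intro h
      exact ⟨by simpa [ldesc, lsrc] using (biprod.inl : obj u ⟶ obj u ⊞ lsrc obj l) ≫= h,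
        by simpa [ldesc, lsrc] using (biprod.inr : lsrc obj l ⟶ obj u ⊞ lsrc obj l) ≫= h⟩
    · intro h
      refine biprod.hom_ext' _ _ ?_ ?_ <;> simp [ldesc, lsrc, h.1, h.2]

theorem isNoetherianObject_lsrc (h : ∀ u, IsNoetherianObject (obj u)) :
    ∀ l : List U, IsNoetherianObject (lsrc obj l)
  | [] => isNoetherianObject_of_isZero (isZero_zero _)
  | u :: l => by
    haveI := h u
    haveI := isNoetherianObject_lsrc h l
    exact ARLib.noeth_of_exact (biprod.inl : obj u ⟶ obj u ⊞ lsrc obj l) biprod.snd ARLib.ker_snd_le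

variable [DecidableEq U]

theorem ldesc_toList_comp_π {S T : Finset U} (h : S ⊆ T) :
    ldesc F obj f S.toList ≫ cokernel.π (ldesc F obj f T.toList) = 0 :=
  (ldesc_comp_eq_zero_iff F obj f _ _).2 fun u hu =>
    (ldesc_comp_eq_zero_iff F obj f _ _).1 (cokernel.condition _) u
      (Finset.mem_toList.2 (h (Finset.mem_toList.1 hu)))

/-- What remains outside of finitely many members of the family. -/
noncomputable def rest : Finset U ⥤ B where
  obj S := cokernel (ldesc F obj f S.toList)
  map {S T} h := cokernel.desc _ (cokernel.π _) (ldesc_toList_comp_π F obj f (leOfHom h))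
  map_id S := by ext; simp
  map_comp _ _ := by ext; simp

/-- The maps cutting out the restrictions. -/
noncomputable def psi : (Functor.const (Finset U)).obj (F.obj a) ⟶ rest F obj f ⋙ G ⋙ F where
  app S := F.map (phi F adj (ldesc F obj f S.toList))
  naturality S T h := by
    simp only [Functor.const_obj_map, Category.id_comp, Functor.comp_map, rest]
    erw [← F.map_comp]
    congr 1
    simp [phi, ← G.map_comp]

variable (hcov : ∀ ⦃Z : B⦄ (c : F.obj a ⟶ Z), (∀ u, f u ≫ c = 0) → c = 0)
  [HasFilteredColimitsOfSize.{w, w} B] [AB5OfSize.{w, w} B]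
  [PreservesFilteredColimitsOfSize.{w, w} G]

/-- `F a` is the filtered colimit of the restrictions to finitely many members of a covering family. -/
noncomputable def cocone : Cocone (kernel (psi F adj obj f)) :=
  (Cocone.precompose (kernel.ι (psi F adj obj f))).obj (constCocone _ (F.obj a))

include adj hcov in
theorem nonempty_isColimit_cocone : Nonempty (IsColimit (cocone F adj obj f)) := by
  haveI : IsFiltered (Finset U) := inferInstance
  haveI : HasColimitsOfShape (Finset U) B := HasFilteredColimitsOfSize.HasColimitsOfShape _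
  haveI : PreservesColimitsOfShape (Finset U) G := PreservesFilteredColimitsOfSize.preserves_filtered_colimits _
  haveI : PreservesColimitsOfSize.{w, w} F := adj.leftAdjoint_preservesColimits
  have h0 : ∀ S, colimit.ι (rest F obj f) S = 0 := by
    intro S
    let c : ∀ S, F.obj a ⟶ colimit (rest F obj f) := fun S => cokernel.π _ ≫ colimit.ι (rest F obj f) S
    have hc : ∀ {S T : Finset U}, S ⊆ T → c T = c S := fun {S T} h => by
      simp only [c]
      rw [← colimit.w (rest F obj f) (homOfLE h)]
      simp [rest]
    have hS : c S = 0 := hcov _ fun u => by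
      rw [← hc (Finset.subset_insert u S)]
      simp only [c]
      rw [← Category.assoc, (ldesc_comp_eq_zero_iff F obj f _ _).1 (cokernel.condition _) u
        (Finset.mem_toList.2 (Finset.mem_insert_self u S)), zero_comp]
    rw [← cancel_epi (cokernel.π (ldesc F obj f S.toList)), comp_zero]
    exact hS
  have hz : IsZero (colimit (rest F obj f)) :=
    (IsZero.iff_id_eq_zero _).2 (colimit.hom_ext fun S => by simp [h0 S])
  haveI : G.Additive := adj.right_adjoint_additive
  let c₃ := (G ⋙ F).mapCocone (colimit.cocone (rest F obj f))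
  have hc₃ : IsColimit c₃ := isColimitOfPreserves _ (colimit.isColimit _)
  have hz₃ : IsZero c₃.pt := (G ⋙ F).map_isZero hz
  let Sh : ShortComplex (Finset U ⥤ B) := ShortComplex.mk _ _ (kernel.condition (psi F adj obj f))
  have hSh : Sh.Exact := ShortComplex.exact_of_f_is_kernel _ (kernelIsKernel _)
  let g : colimit Sh.X₁ ⟶ F.obj a := colimit.desc _ (cocone F adj obj f)
  have hm : Mono g := colim.map_mono' Sh.f (colimit.isColimit _) (isColimitConstCocone _ _) g (fun S => by
    simp [g, cocone, Sh])
  have hex := colim.exact_mapShortComplex hSh (colimit.isColimit _) (c₂ := constCocone _ (F.obj a))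
    (isColimitConstCocone _ _) (c₃ := c₃) hc₃ g 0 (fun S => by simp [g, cocone, Sh])
    (fun S => hz₃.eq_of_tgt _ _)
  have he : Epi g := hex.epi_f rfl
  haveI : IsIso g := isIso_of_mono_of_epi g
  exact ⟨IsColimit.ofPointIso (colimit.isColimit _) (i := ‹IsIso g›)⟩

include adj hcov in
theorem eq_zero_of_res {Z : B} (c : F.obj a ⟶ Z)
    (h : ∀ S : Finset U, F.map (kernel.ι (phi F adj (ldesc F obj f S.toList))) ≫ c = 0) : c = 0 := by
  refine (nonempty_isColimit_cocone F adj obj f hcov).some.hom_ext fun S => ?_
  obtain ⟨z, hz⟩ := exists_lift F adj (ldesc F obj f S.toList) ((kernel.ι (psi F adj obj f)).app S)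
    (NatTrans.congr_app (kernel.condition (psi F adj obj f)) S)
  change ((kernel.ι (psi F adj obj f)).app S ≫ 𝟙 _) ≫ c = _ ≫ 0
  rw [Category.comp_id, comp_zero]
  exact hz ▸ by rw [Category.assoc, h, comp_zero]

end Family

theorem eq_of_map_comp_eq {X Y : A} {ξ : A} (j : ξ ⟶ X) {T : B} (t : T ⟶ F.obj ξ) (f g : X ⟶ Y)
    (h : j ≫ f = j ≫ g) : (t ≫ F.map j) ≫ F.map f = (t ≫ F.map j) ≫ F.map g := by
  rw [Category.assoc, Category.assoc, ← F.map_comp, ← F.map_comp, h]

section Grothendieck

variable [IsGrothendieckAbelian.{w} B] [PreservesFilteredColimitsOfSize.{w, w} G]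

include adj in
theorem exists_bounded {a : A} (h : separator B ⟶ F.obj a) :
    ∃ (b : Shrink.{w} (Subobject (separator B)) × ℕ → (separator B ⟶ F.obj a))
      (y : separator B ⟶ F.obj (res F adj (Sigma.desc b))),
      y ≫ F.map (kernel.ι (phi F adj (Sigma.desc b))) = h := by
  classical
  let g₀ := separator B
  let U := g₀ ⟶ F.obj a
  let obj : U → B := fun _ => g₀
  let p := fun S : Finset U => ldesc F obj (fun u => u) S.toList
  let V : Finset U → Subobject g₀ := fun S =>
    Subobject.mk (kernel.ι (h ≫ cokernel.π (F.map (kernel.ι (phi F adj (p S))))))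
  let sel : Subobject g₀ → Finset U := fun v => if hv : ∃ S, V S = v then hv.choose else ∅
  let b : Shrink.{w} (Subobject g₀) × ℕ → U := fun r =>
    ((sel ((equivShrink _).symm r.1)).toList[r.2]?).getD 0
  refine ⟨b, ?_⟩
  let ιb := F.map (kernel.ι (phi F adj (Sigma.desc b)))
  suffices hh : h ≫ cokernel.π ιb = 0 from ⟨_, Abelian.monoLift_comp ιb h hh⟩
  obtain ⟨hcol⟩ := nonempty_isColimit_cocone F adj obj (fun u => u) (fun Z c hc =>
    (isSeparator_def g₀).1 (isSeparator_separator B) c 0 fun k => by simpa using hc k)
  refine KInj.eq_zero_of_colimit_cover hcol h _ fun S T t y hy => ?_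
  obtain ⟨z, hz⟩ := exists_lift F adj (p S) ((kernel.ι (psi F adj obj fun u => u)).app S)
    (NatTrans.congr_app (kernel.condition (psi F adj obj fun u => u)) S)
  have h1 : t ≫ h ≫ cokernel.π (F.map (kernel.ι (phi F adj (p S)))) = 0 := by
    rw [← Category.assoc, hy]
    change (y ≫ (kernel.ι (psi F adj obj fun u => u)).app S ≫ 𝟙 _) ≫ _ = 0
    rw [Category.comp_id, ← hz]
    simp
  have hS : V (sel (V S)) = V S := by
    have hv : ∃ S', V S' = V S := ⟨S, rfl⟩
    simp only [sel, dif_pos hv]
    exact hv.choose_spec
  let S₀ := sel (V S)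
  have h2 : t ≫ h ≫ cokernel.π (F.map (kernel.ι (phi F adj (p S₀)))) = 0 := by
    rw [← kernel.lift_ι (h ≫ cokernel.π (F.map (kernel.ι (phi F adj (p S))))) t h1,
      ← Subobject.ofMkLEMk_comp hS.ge, Category.assoc, Category.assoc, kernel.condition, comp_zero,
      comp_zero]
  have hp : p S₀ ≫ cokernel.π (Sigma.desc b) = 0 :=
    (ldesc_comp_eq_zero_iff F obj _ _ _).2 fun u hu => by
      obtain ⟨k, hk, hku⟩ := List.getElem_of_mem hu
      have hb : b (equivShrink _ (V S), k) = u := by simp [b, S₀, List.getElem?_eq_getElem hk, hku]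
      rw [← hb, ← Sigma.ι_desc b (equivShrink _ (V S), k), Category.assoc, cokernel.condition,
        comp_zero]
  have h3 : kernel.ι (phi F adj (p S₀)) ≫ phi F adj (Sigma.desc b) = 0 := by
    have h4 : phi F adj (Sigma.desc b) = phi F adj (p S₀) ≫ G.map (cokernel.desc (p S₀) (cokernel.π (Sigma.desc b)) hp) := by
      simp [phi, ← G.map_comp]
    rw [h4, kernel.condition_assoc, zero_comp]
  have h5 : F.map (kernel.ι (phi F adj (p S₀))) ≫ cokernel.π ιb = 0 := by
    rw [← kernel.lift_ι _ _ h3, F.map_comp, Category.assoc, cokernel.condition, comp_zero]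
  rw [← cokernel.π_desc _ _ h5, reassoc_of% h2, zero_comp]

include adj in
theorem isGrothendieckAbelian [HasColimitsOfSize.{w, w} A] : IsGrothendieckAbelian.{w} A := by
  haveI := ab5 F adj
  haveI : WellPowered.{w} A := wellPowered F
  let P : B := ∐ fun _ : Shrink.{w} (Subobject (separator B)) × ℕ => separator B
  let κ := Σ Q : Shrink.{w} (Subobject P),
    Shrink.{w} (Subobject (G.obj (cokernel ((equivShrink (Subobject P)).symm Q).arrow)))
  let t : κ → A := fun k => ((equivShrink (Subobject _)).symm k.2 : A)
  haveI hsh : HasColimitsOfShape (Discrete κ) A := HasColimitsOfSize.has_colimits_of_shape _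
  haveI : HasCoproduct t := @HasColimitsOfShape.has_colimit _ _ _ _ hsh _
  refine { hasSeparator := ⟨⟨∐ t, (isSeparator_sigma t).2 fun X Y f g hfg => ?_⟩⟩ }
  refine F.map_injective ((isSeparator_def _).1 (isSeparator_separator B) _ _ fun h => ?_)
  obtain ⟨b, y, rfl⟩ := exists_bounded F adj h
  refine eq_of_map_comp_eq F _ y f g ?_
  obtain ⟨i, hi⟩ := exists_mono F adj (Sigma.desc b)
  let Q : Subobject P := Subobject.mk (kernel.ι (Sigma.desc b))
  let e : Abelian.image (Sigma.desc b) ≅ cokernel ((equivShrink (Subobject P)).symm (equivShrink _ Q)).arrow :=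
    (Abelian.coimageIsoImage _).symm ≪≫ cokernel.mapIso _ _
      ((Subobject.underlyingIso (kernel.ι (Sigma.desc b))).symm ≪≫ Subobject.isoOfEq Q _ (by simp)) (Iso.refl P) (by simp [Q]; exact Category.comp_id _)
  let i' := i ≫ G.map e.hom
  haveI : Mono i' := mono_comp _ _
  let k : κ := ⟨equivShrink _ Q, equivShrink _ (Subobject.mk i')⟩
  let ek : t k ≅ res F adj (Sigma.desc b) :=
    Subobject.isoOfEq _ _ (by simp [k]) ≪≫ Subobject.underlyingIso i'
  have := hfg (t k) (ObjectProperty.ofObj.mk k) (ek.hom ≫ kernel.ι _)
  rw [Category.assoc, Category.assoc, cancel_epi] at this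
  exact this

end Grothendieck

section Noetherian

variable {ι : Type w} (s : ι → B) (hsN : ∀ i, IsNoetherianObject (s i))
  (hsep : ∀ ⦃X Y : B⦄ (f g : X ⟶ Y), (∀ (i : ι) (h : s i ⟶ X), h ≫ f = h ≫ g) → f = g)
  [HasColimitsOfSize.{w, w} B] [AB5OfSize.{w, w} B] [PreservesFilteredColimitsOfSize.{w, w} G]

include hsep in
theorem isGrothendieckAbelian_of_separating : IsGrothendieckAbelian.{w} B where
  hasSeparator := ⟨⟨∐ s, (isSeparator_def _).2 fun X Y f g h => hsep f g fun i k => by
    classical
    have := h (Sigma.desc fun i' => if hi : i' = i then eqToHom (by rw [hi]) ≫ k else 0)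
    simpa using Sigma.ι s i ≫= this⟩⟩

/-- The maps into an object from the separating family. -/
abbrev Elts (a : A) : Type w := Σ i, (s i ⟶ F.obj a)

/-- The sum of finitely many maps from the family. -/
noncomputable abbrev sumDesc {a : A} (l : List (Elts F s a)) :
    lsrc (fun u : Elts F s a => s u.1) l ⟶ F.obj a :=
  ldesc F _ (fun u => u.2) l

include adj hsN in
theorem isNoetherianObject_res_sum {a : A} (l : List (Elts F s a)) :
    IsNoetherianObject (F.obj (res F adj (sumDesc F s l))) := by
  haveI := isNoetherianObject_lsrc (fun u : Elts F s a => s u.1) (fun u => hsN u.1) l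
  exact isNoetherianObject_res F adj _

include adj hsN hsep in
theorem isNoetherianObject_map (a : A) [IsNoetherianObject a] : IsNoetherianObject (F.obj a) := by
  classical
  let p := fun S : Finset (Elts F s a) => sumDesc F s S.toList
  let R : Finset (Elts F s a) → Subobject a := fun S => Subobject.mk (kernel.ι (phi F adj (p S)))
  obtain ⟨m, ⟨S, rfl⟩, hm⟩ := WellFounded.has_min (wellFounded_gt (α := Subobject a)) (Set.range R)
    ⟨_, ∅, rfl⟩
  have hle : ∀ {S T : Finset (Elts F s a)}, S ⊆ T → R S ≤ R T := fun {S T} h => by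
    have h4 : phi F adj (p T) = phi F adj (p S) ≫
        G.map (cokernel.desc (p S) (cokernel.π (p T)) (ldesc_toList_comp_π F _ _ h)) := by
      simp [phi, ← G.map_comp]
    exact Subobject.mk_le_mk_of_comm (kernel.lift _ (kernel.ι _) (by rw [h4, kernel.condition_assoc, zero_comp]))
      (kernel.lift_ι _ _ _)
  have hall : ∀ T, R T ≤ R S := fun T => by
    refine (hle Finset.subset_union_right).trans (le_of_eq ((eq_of_le_of_not_lt (hle Finset.subset_union_left) ?_).symm))
    exact fun h => hm _ ⟨S ∪ T, rfl⟩ h
  have he : cokernel.π (F.map (kernel.ι (phi F adj (p S)))) = 0 :=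
    eq_zero_of_res F adj _ (fun u : Elts F s a => u.2)
      (fun Z c hc => hsep c 0 fun i h => by simpa using hc ⟨i, h⟩) _ fun T => by
      rw [← Subobject.ofMkLEMk_comp (hall T), F.map_comp, Category.assoc, cokernel.condition, comp_zero]
  haveI := Abelian.epi_of_cokernel_π_eq_zero _ he
  haveI := isNoetherianObject_res_sum F adj s hsN S.toList
  exact ARLib.noeth_of_epi (F.map (kernel.ι (phi F adj (p S))))

include adj hsN hsep in
theorem exists_noetherian_separating :
    ∃ (κ : Type w) (t : κ → A), (∀ k, IsNoetherianObject (t k)) ∧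
      ∀ ⦃X Y : A⦄ (f g : X ⟶ Y), (∀ (k : κ) (h : t k ⟶ X), h ≫ f = h ≫ g) → f = g := by
  classical
  haveI := isGrothendieckAbelian_of_separating s hsep
  haveI : WellPowered.{w} A := wellPowered F
  let P : List ι → B := lsrc s
  let κ₀ := Σ (l : List ι) (Q : Shrink.{w} (Subobject (P l))),
    Shrink.{w} (Subobject (G.obj (cokernel ((equivShrink (Subobject (P l))).symm Q).arrow)))
  let t₀ : κ₀ → A := fun k => ((equivShrink (Subobject _)).symm k.2.2 : A)
  refine ⟨{k : κ₀ // IsNoetherianObject (t₀ k)}, fun k => t₀ k.1, fun k => k.2, fun X Y f g hfg => ?_⟩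
  refine F.map_injective (sub_eq_zero.1 ?_)
  refine eq_zero_of_res F adj _ (fun u : Elts F s X => u.2)
    (fun Z c hc => hsep c 0 fun i h => by simpa using hc ⟨i, h⟩) _ fun S => ?_
  let p := sumDesc F s S.toList
  have hsrc : ∀ l : List (Elts F s X), lsrc (fun u : Elts F s X => s u.1) l = P (l.map Sigma.fst) := by
    intro l
    induction l with
    | nil => rfl
    | cons u l ih => simp only [P, List.map_cons, lsrc] at ih ⊢; congr 1
  obtain ⟨i, hi⟩ := exists_mono F adj p
  let l := S.toList.map Sigma.fst
  let ι' : kernel p ⟶ P l := kernel.ι p ≫ eqToHom (hsrc S.toList)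
  let Q : Subobject (P l) := Subobject.mk ι'
  let e : Abelian.image p ≅ cokernel ((equivShrink (Subobject (P l))).symm (equivShrink _ Q)).arrow :=
    (Abelian.coimageIsoImage _).symm ≪≫ cokernel.mapIso _ _
      ((Subobject.underlyingIso ι').symm ≪≫ Subobject.isoOfEq Q _ (by simp)) (eqToIso (hsrc S.toList)) (by simp [Q, ι'])
  let i' := i ≫ G.map e.hom
  haveI : Mono i' := mono_comp _ _
  let k : κ₀ := ⟨l, equivShrink _ Q, equivShrink _ (Subobject.mk i')⟩
  let ek : t₀ k ≅ res F adj p := Subobject.isoOfEq _ _ (by simp [k]) ≪≫ Subobject.underlyingIso i'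
  haveI := isNoetherianObject_res_sum F adj s hsN S.toList
  haveI := isNoetherianObject_of_map F (res F adj p)
  have hk : IsNoetherianObject (t₀ k) := isNoetherianObject_of_mono ek.hom
  have := hfg ⟨k, hk⟩ (ek.hom ≫ kernel.ι _)
  rw [Category.assoc, Category.assoc, cancel_epi] at this
  rw [Preadditive.comp_sub, ← F.map_comp, ← F.map_comp, this, sub_self]

end Noetherian

end Groth.Agent.Comonadic
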